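import Cfsg.Agent.TO.E6N.Abs
import Cfsg.Agent.TO.Blk
import Cfsg.Agent.TO.Kr

/-!
# S4817, `E₆`, `p = 3`, nontoral planes (helper28): the block side
-/

set_option autoImplicit false
set_option linter.unusedSectionVars false

namespace Cfsg.Agent.TO.E6N

open Cfsg Subgroup
open scoped commutatorElement

variable {G : Type} [Group G] [Finite G] {M : Ideal AlgInt} {b : Set (IrrCharacter G)} {D : Subgroup G}
  {S : Type} [Group S] {σ : G →* S} {Y : Type} [Group Y] {ι : S →* Y} {e : V → Y} {u v : Y}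

local instance : Fact (Nat.Prime 3) := ⟨Nat.prime_three⟩

section

variable (H : Hyp 3 M b D σ) (hι : Function.Injective ι)
include H hι

omit [Finite G] in
theorem cent_of {x y : G} (h : ι (σ x) = ι (σ y)) : x⁻¹ * y ∈ center G := by
  rw [← H.ker, MonoidHom.mem_ker, map_mul, map_inv, hι h, inv_mul_cancel]

/-- two `3`-elements with the same image -/
theorem eq_of {x y : G} (hx : PElt 3 x) (hy : PElt 3 y) (h : ι (σ x) = ι (σ y)) : x = y := by
  have h1 := cent_of H hι h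
  obtain ⟨m, hm⟩ := pElt_iff.1 hx
  obtain ⟨n, hn⟩ := pElt_iff.1 hy
  have hc : Commute x (x⁻¹ * y) := mem_center_iff.1 h1 x
  have h2 : (x⁻¹ * y) ^ 3 ^ (m + n) = 1 := by
    have h3 : y ^ 3 ^ (m + n) = 1 := by rw [add_comm, pow_add, pow_mul, hn, one_pow]
    have h4 : x ^ 3 ^ (m + n) = 1 := by rw [pow_add, pow_mul, hm, one_pow]
    have h5 := hc.mul_pow (3 ^ (m + n))
    rwa [mul_inv_cancel_left, h3, h4, one_mul, eq_comm] at h5
  have h3 : orderOf (x⁻¹ * y) ∣ Nat.card (center G) := by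
    rw [← orderOf_mk _ h1]
    exact orderOf_dvd_natCard _
  have h4 : orderOf (x⁻¹ * y) = 1 := Nat.eq_one_of_dvd_coprimes
    (Nat.Coprime.pow_left _ ((Nat.Prime.coprime_iff_not_dvd Nat.prime_three).2 H.zp)) (orderOf_dvd_of_pow_eq_one h2) h3
  exact inv_mul_eq_one.1 (orderOf_eq_one_iff.1 h4)

theorem pD {d : G} (hd : d ∈ D) : PElt 3 d := pElt_of_mem (BHZ.Nil.isPGroup_defect H.hD) hd

theorem memD {x : G} (hx : PElt 3 x) (h : ι (σ x) ∈ (D.map σ).map ι) : x ∈ D := by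
  obtain ⟨_, ⟨d, hd, rfl⟩, h⟩ := h
  exact eq_of H hι (pD H hι hd) hx h ▸ hd

omit H hι [Finite G] in
theorem memQ {x : G} (h : x ∈ D) : ι (σ x) ∈ (D.map σ).map ι := ⟨_, ⟨x, h, rfl⟩, rfl⟩

omit H hι [Finite G] in
theorem pElt_aut (α : MulAut G) {x : G} (h : PElt 3 x) : PElt 3 (α x) := by
  obtain ⟨k, hk⟩ := h
  exact ⟨k, by rw [← hk]; exact α.orderOf_eq x⟩

theorem cen_iff {g : G} : g ∈ Ce D ↔ ι (σ g) ∈ centralizer (((D.map σ).map ι : Subgroup Y) : Set Y) := by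
  refine ⟨fun h => mem_centralizer_iff.2 ?_, fun h => mem_centralizer_iff.2 fun d hd => ?_⟩
  · rintro _ ⟨_, ⟨d, hd, rfl⟩, rfl⟩
    rw [← map_mul, ← map_mul, ← map_mul, ← map_mul, mem_centralizer_iff.1 h d hd]
  · refine (mul_inv_eq_iff_eq_mul.1 (eq_of H hι (pElt_aut (MulAut.conj g) (pD H hι hd)) (pD H hι hd) ?_)).symm
    simp only [map_mul, map_inv]
    rw [← mem_centralizer_iff.1 h _ (memQ hd), mul_inv_cancel_right]

theorem aut_iff {γ : MulAut G} {β : MulAut Y} (h : ∀ g, ι (σ (γ g)) = β (ι (σ g))) :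
    (∀ x, γ x ∈ D ↔ x ∈ D) ↔ ∀ y, β y ∈ (D.map σ).map ι ↔ y ∈ (D.map σ).map ι := by
  refine ⟨fun h1 y => ⟨?_, ?_⟩, fun h1 x => ⟨fun h2 => ?_, fun h2 => ?_⟩⟩
  · rintro ⟨_, ⟨d, hd, rfl⟩, h2⟩
    obtain ⟨d, rfl⟩ := γ.surjective d
    rw [h] at h2
    exact β.injective h2 ▸ memQ ((h1 d).1 hd)
  · rintro ⟨_, ⟨d, hd, rfl⟩, rfl⟩
    rw [← h]
    exact memQ ((h1 d).2 hd)
  · refine memD H hι ?_ ((h1 _).1 (h x ▸ memQ h2))
    simpa using pElt_aut γ⁻¹ (pD H hι h2)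
  · exact memD H hι (pElt_aut γ (pD H hι h2)) (h x ▸ (h1 _).2 (memQ h2))

theorem norm_iff {g : G} : g ∈ normalizer (D : Set G) ↔
    ι (σ g) ∈ normalizer (((D.map σ).map ι : Subgroup Y) : Set Y) := by
  have h := aut_iff H hι (γ := MulAut.conj g) (β := MulAut.conj (ι (σ g))) fun x => by simp
  rw [mem_normalizer_iff, mem_normalizer_iff]
  exact ⟨fun h1 y => (h.1 (fun x => (h1 x).symm) y).symm, fun h1 x => (h.2 (fun y => (h1 y).symm) x).symm⟩

theorem ne_one {d : G} (hd : d ∈ D) (h : d ≠ 1) : ι (σ d) ≠ 1 := fun h1 =>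
  h (eq_of H hι (pD H hι hd) (pD H hι (one_mem D)) (by rw [h1, map_one, map_one]))

variable (C : Cf ((D.map σ).map ι) e u v)
include C

theorem ab : D ≤ Ce D := fun _ hd => (cen_iff H hι).2 (mem_centralizer_iff.2 fun _ hy => C.comm hy (memQ hd))

theorem card9 : Nat.card D = 9 := by
  rw [← C.card, card_map_of_injective hι]
  exact Nat.card_eq_of_bijective _ ⟨H.injD, σ.subgroupMap_surjective D⟩

theorem cube {t d : G} (ht : t ∈ normalizer (D : Set G)) (hd : d ∈ D) (h1 : d ≠ 1) (h2 : t * d * t⁻¹ = d) :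
    t ^ 3 ∈ Ce D := by
  rw [cen_iff H hι, map_pow, map_pow]
  refine C.cube_cen ((norm_iff H hι).1 ht) (memQ hd) (ne_one H hι hd h1) ?_
  have h3 := congrArg (fun x => ι (σ x)) h2
  simpa only [map_mul, map_inv] using h3

theorem trans (hc : ∀ x ∈ NN ((D.map σ).map ι), ∀ y ∈ NN ((D.map σ).map ι), ⁅x, y⁆ ∈ ι.range) {d d' : G} (hd : d ∈ D)
    (hd' : d' ∈ D) (h1 : d ≠ 1) (h2 : d' ≠ 1) : ∃ k : G, ι (σ k) ∈ NN ((D.map σ).map ι) ∧ k * d * k⁻¹ = d' := by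
  obtain ⟨_, ⟨k, rfl⟩, h3, h4⟩ := C.trans (map_le_range ι _) hc (memQ hd) (memQ hd') (ne_one H hι hd h1)
    (ne_one H hι hd' h2)
  obtain ⟨k, rfl⟩ := H.surj k
  refine ⟨k, h3, eq_of H hι (pElt_aut (MulAut.conj k) (pD H hι hd)) (pD H hι hd') ?_⟩
  simpa only [MulAut.conj_apply, map_mul, map_inv] using h4

/-- **trivial centre** -/
theorem false_inj (hσ : Function.Injective σ)
    (hc : ∀ x ∈ NN ((D.map σ).map ι), ∀ y ∈ NN ((D.map σ).map ι), ⁅x, y⁆ ∈ ι.range)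
    (ext : ∀ α : MulAut S, ∃ β : MulAut Y, ∀ s, ι (α s) = β (ι s)) : False := by
  obtain ⟨θ, hθ⟩ := blk.can0 G 3 M b D H.hM H.hb H.hD (ab H hι C)
  refine blk.q8b G M b D θ H.toTwo hθ (card9 H hι C) (fun t ht h3 d hd h1 h2 => ?_)
    ((NN ((D.map σ).map ι)).comap (ι.comp σ)) ⟨fun α hα x hx => ?_, fun x hx hx' => ?_⟩ fun d hd d' hd' h1 h2 => ?_
  · have h4 := cube H hι C ht hd h1 h2
    obtain ⟨m, hm⟩ := exists_pow_eq_self_of_coprime (x := t) ((Nat.Prime.coprime_iff_not_dvd Nat.prime_three).2 h3)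
    exact hm ▸ pow_mem h4 m
  · obtain ⟨α', -, h1⟩ := H.exists_ind (hθ.le_Stab hα)
    obtain ⟨β, h2⟩ := ext α'
    have h3 : ∀ g, ι (σ (α g)) = β (ι (σ g)) := fun g => by rw [h1, h2]
    show ι (σ (α x)) ∈ NN _
    rw [h3]
    exact map_NN ((aut_iff H hι h3).1 hα.1) hx
  · obtain ⟨_, ⟨d, hd, rfl⟩, h⟩ := C.mem_of_cen hx ((cen_iff H hι).1 hx')
    exact hσ (hι h) ▸ hθ.triv d hd
  · obtain ⟨k, h3, h4⟩ := trans H hι C hc hd hd' h1 h2
    exact ⟨k, h3, (norm_iff H hι).2 (NN_le _ h3), h4⟩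

omit C in
theorem aut_eq {γ γ' : MulAut G} (h : ∀ g, ι (σ (γ g)) = ι (σ (γ' g))) : γ = γ' :=
  R2.RkInt.eq_of_perfect ⟨H.perf⟩ _ _ fun g => cent_of H hι (h g).symm

omit H hι C in
/-- an automorphism which normalises `D` and fixes the `3`-regular elements of `C(D)` -/
theorem mem_LA_of {θ : G → ℂ} (hθ : Can 3 M b D θ) {γ : MulAut G} (h1 : ∀ x, γ x ∈ D ↔ x ∈ D)
    (h2 : ∀ c ∈ Ce D, ¬ 3 ∣ orderOf c → γ c = c) : γ ∈ LA D θ := by
  have P := blk.can1 G 3 M b D θ hθ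
  refine ⟨h1, fun g => ?_⟩
  by_cases hg : g ∈ Ce D
  · obtain ⟨x, y, y1, y2, ⟨k, y3⟩, y4⟩ := Blocks.PPart.exists_isPPart 3 (⟨g, hg⟩ : Ce D)
    have e1 : (x : G) * y = g := congrArg Subtype.val y1
    have e2 : ¬ 3 ∣ orderOf (y : G) := by rwa [orderOf_coe]
    have e3 : IsPPart 3 g x := ⟨y, e1, congrArg Subtype.val y2.eq, ⟨k, by rw [orderOf_coe, y3]⟩, e2⟩
    by_cases hx : (x : G) ∈ D
    · rw [← e1, map_mul, h2 y y.2 e2, P.mul _ hx, P.mul _ ((h1 _).2 hx)]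
    · rw [P.van _ _ e3 hx]
      exact P.van _ _ (Blocks.PPart.isPPart_map γ.toMonoidHom γ.injective e3) fun h => hx ((h1 _).1 h)
  · rw [hθ.zero g hg, hθ.zero _ fun h => hg ((LA_Ce h1 g).1 h)]

/-- **the diagonal automorphisms stabilise the block** -/
theorem false_two (h2 : Nat.card (center G) ∣ 2)
    (hc : ∀ x ∈ NN ((D.map σ).map ι), ∀ y ∈ NN ((D.map σ).map ι), ⁅x, y⁆ ∈ ι.range)
    (hl : ∀ w ∈ NN ((D.map σ).map ι), ∃ α ∈ Ind σ b, ∀ s, ι (α s) = w * ι s * w⁻¹)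
    (h12 : (Inn S).relIndex (Ind σ b) ∣ 12) (h6 : ∀ β ∈ Ind σ b, β ^ 6 ∈ Inn S) : False := by
  obtain ⟨θ, hθ⟩ := blk.can0 G 3 M b D H.hM H.hb H.hD (ab H hι C)
  have hz : ∀ z ∈ center G, z ^ 2 = 1 := fun z hz => by
    have h := pow_card_eq_one' (x := (⟨z, hz⟩ : center G))
    obtain ⟨m, hm⟩ := h2
    rw [hm, pow_mul]
    have h' : z ^ Nat.card (center G) = 1 := congrArg Subtype.val h
    rw [h', one_pow]
  let Λ : Subgroup Y :=
    { carrier := {w | ∃ γ ∈ LA D θ, ∀ g, ι (σ (γ g)) = w * ι (σ g) * w⁻¹}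
      one_mem' := ⟨1, one_mem _, fun g => by simp⟩
      mul_mem' := by
        rintro w w' ⟨γ, h1, h3⟩ ⟨γ', h4, h5⟩
        exact ⟨γ * γ', mul_mem h1 h4, fun g => by rw [MulAut.mul_apply, h3, h5]; group⟩
      inv_mem' := by
        rintro w ⟨γ, h1, h3⟩
        refine ⟨γ⁻¹, inv_mem h1, fun g => ?_⟩
        have h4 := h3 (γ⁻¹ g)
        rw [MulAut.apply_inv_self] at h4
        rw [h4]
        group }
  have hΛ : NN ((D.map σ).map ι) ≤ Λ := (closure_le _).2 fun s ⟨s1, d, d1, d2, s2⟩ => by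
    have s3 : s ∈ NN ((D.map σ).map ι) := subset_closure ⟨s1, d, d1, d2, s2⟩
    obtain ⟨α, ⟨γ, -, h3⟩, h4⟩ := hl s s3
    have h5 : ∀ g, ι (σ (γ g)) = s * ι (σ g) * s⁻¹ := fun g => by rw [h3, h4]
    have h6 : ∀ x, γ x ∈ D ↔ x ∈ D :=
      (aut_iff H hι (β := MulAut.conj s) h5).2 fun y => (mem_normalizer_iff.1 s1 y).symm
    refine ⟨γ, mem_LA_of hθ h6 fun c hc h7 => ?_, h5⟩
    -- the order of `s` divides `9`
    have h8 : s * d * s⁻¹ = d := by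
      obtain ⟨k, -, -, rfl⟩ := C.trans (K := ⊤) le_top (fun _ _ _ _ => trivial) (C.mem' (1, 0)) d1 (C.ne (by decide)) d2
      have h9 := conj_SC k⁻¹ s2
      rw [show k⁻¹ * (k * e (1, 0) * k⁻¹) * k⁻¹⁻¹ = e (1, 0) by group] at h9
      calc s * (k * e (1, 0) * k⁻¹) * s⁻¹ = k * (k⁻¹ * s * k⁻¹⁻¹ * e (1, 0)) * k⁻¹ * s⁻¹ := by group
        _ = _ := by rw [C.cen _ h9]; group
    have h9 : s ^ 9 = 1 := by
      obtain ⟨x, hx⟩ := (C.mem _).1 (C.mem_of_cen (pow_mem s3 3) (C.cube_cen s1 d1 d2 h8))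
      rw [show 9 = 3 * 3 from rfl, pow_mul, ← hx, pow_succ, pow_two, ← C.add, ← C.add,
        (by decide : ∀ x : V, x + x + x = 0), C.zero]
    have h10 : ∀ n : ℕ, ∀ g, ι (σ ((γ ^ n) g)) = s ^ n * ι (σ g) * (s ^ n)⁻¹ := fun n => by
      induction n with
      | zero => simp
      | succ n ih =>
        intro g
        rw [pow_succ, MulAut.mul_apply, ih, h5, pow_succ]
        group
    have h11 : γ ^ 9 = 1 := aut_eq H hι fun g => by rw [h10, h9]; simp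
    obtain ⟨m, hm⟩ := exists_pow_eq_self_of_coprime (x := c) ((Nat.Prime.coprime_iff_not_dvd Nat.prime_three).2 h7)
    have h13 : ι (σ c) = ι (σ (γ c)) := by
      have h14 := cube_comm ((cen_iff H hι).1 (pow_mem hc m)) s3
      rw [← map_pow, ← map_pow, ← pow_mul, mul_comm, pow_mul, hm] at h14
      rw [h5, ← h14, mul_inv_cancel_right]
    have h14 := cent_of H hι h13
    obtain ⟨ζ, hζ⟩ : ∃ ζ, ζ = c⁻¹ * γ c := ⟨_, rfl⟩
    rw [← hζ] at h14
    have h15 : γ c = c * ζ := by rw [hζ, mul_inv_cancel_left]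
    have h16 : γ ζ = ζ := by
      by_cases h : ζ = 1
      · rw [h, map_one]
      · have hcard : Nat.card (center G) ≤ 2 := Nat.le_of_dvd two_pos h2
        by_contra h'
        have h17 : (3 : ℕ) ≤ Nat.card (center G) := by
          have h18 : γ ζ ≠ 1 := fun h18 => h (γ.map_eq_one_iff.1 h18)
          have h19 := Set.ncard_le_ncard (s := {1, ζ, γ ζ}) (t := (center G : Set G)) (by
            rintro _ (rfl | rfl | rfl)
            exacts [one_mem _, h14, aut_center γ h14])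
          rwa [Set.ncard_eq_three.2 ⟨_, _, _, Ne.symm h, Ne.symm h18, Ne.symm h', rfl⟩] at h19
        omega
    have h17 : ∀ n : ℕ, (γ ^ n) c = c * ζ ^ n := fun n => by
      induction n with
      | zero => simp
      | succ n ih => rw [pow_succ', MulAut.mul_apply, ih, map_mul, map_pow, h15, h16, pow_succ', mul_assoc]
    have h18 := h17 9
    rw [h11, MulAut.one_apply, left_eq_mul, show 9 = 2 * 4 + 1 from rfl, pow_succ, pow_mul, hz ζ h14, one_pow,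
      one_mul] at h18
    rw [h15, h18, mul_one]
  refine blk.q8c G M b D θ S σ H hθ (card9 H hι C) ⟨fun d hd d' hd' h1 h3 => ?_, fun t ht d hd h1 h3 => ?_⟩ h12 h6
  · obtain ⟨k, h4, h5⟩ := trans H hι C hc hd hd' h1 h3
    obtain ⟨γ, h7, h8⟩ := hΛ h4
    have h9 : γ = MulAut.conj k := aut_eq H hι fun g => by rw [h8]; simp
    exact ⟨k, show MulAut.conj k ∈ LA D θ from h9 ▸ h7, h5⟩
  · exact hθ.mem_Ce_of_pow ht (k := 1) (by rw [pow_one]; exact cube H hι C (In_le_norm ht) hd h1 h3)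

end

end Cfsg.Agent.TO.E6N
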