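import Cfsg.Agent.TO.E6N.Cov
import Cfsg.Agent.TO.E6N.Blk
import Cfsg.Agent.TO.E6.Defs

/-!
# S4817, `E₆`, `p = 3`, nontoral planes (helper28): `nonT`
-/

set_option autoImplicit false
set_option linter.unusedSectionVars false

namespace Cfsg.Agent.TO.E6N

open Cfsg Cfsg.Lie Subgroup Cfsg.Agent.BHZ Cfsg.Agent.BHZ.Exc Cfsg.Agent.BHZ.Exc.DT Cfsg.Agent.TO.E6
open Cfsg.Agent.Nodes Cfsg.Agent.DS.Nt Cfsg.Agent.DL.Ex Cfsg.Agent.KFacts.RgdField Cfsg.Agent.BpExc.TowChev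
open Cfsg.Agent.KFacts.RgdChevCoord Cfsg.Agent.BpExc
open Cfsg.Agent.H469.Exc (KK)
open Cfsg.Agent.DS.Ex (YY hpE6)
open Cfsg.Agent.H720.TwFr (rho6)
open scoped commutatorElement

variable {r : ℕ} [hr : Fact r.Prime]

section Cover

variable {L : Type} [Group L] {θ : L →* YY chevE6 r} {z : L}

theorem ds_std (h3 : r ≠ 3) (C : Cov6 θ z) {ζ : KK r} {x : L} (h : StdD ζ (θ x)) : Ds θ x := by
  refine ⟨dt_std boxTY2 h3 C h, fun u hu => (mem_SS_iff C.toCov (cop3 h3) h.2.1 (StdD.pow h)).2 ?_⟩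
  have hT : θ u ∈ TT chevE6 (KK r) := mem_T_of_comm hpE6 fun s hs => by
    obtain ⟨s', h1, rfl⟩ := exists_root' hpE6 hs three_ne_zero
    exact (mem_SC.1 hu s' (T_comm hpE6 h1 h.2.1)).symm
  refine ⟨hT, fun a ha => cX_eq_one_of_comm hT ha.1 one_ne_zero ?_⟩
  obtain ⟨m, hm⟩ := exists_pow_eq_self_of_coprime (n := 3) (x := xc hpE6 a (1 : KK r))
    ((cop3 h3).symm.coprime_dvd_right (orderOf_dvd_of_pow_eq_one (xc_pow a 1)))
  have h1 : Commute (xc hpE6 a (1 : KK r)) (θ x) :=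
    Mz_comm (Set.singleton_subset_iff.2 h.2.1) (X_le_Mz ha (xc_mem ha.1 1)) rfl
  have h2 := mem_SC.1 hu _ (h1.pow_left m).eq
  rw [← pow_mul, mul_comm m, pow_mul, hm] at h2
  exact h2.symm

theorem ds_of (h3 : r ≠ 3) (C : Cov6 θ z) {x : L} (h : TypD (θ x)) : Ds θ x := by
  obtain ⟨g, ζ, h⟩ := h
  obtain ⟨w, rfl⟩ := C.surj g
  exact Ds.of_conj (w := w) (ds_std h3 C (ζ := ζ) (by rwa [map_mul, map_mul, map_inv]))

theorem typA_conj {x : YY chevE6 r} (h : TypA x) (w : YY chevE6 r) : TypA (w * x * w⁻¹) := by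
  obtain ⟨g, ζ, h⟩ := h
  exact ⟨g * w⁻¹, ζ, by rwa [show g * w⁻¹ * (w * x * w⁻¹) * (g * w⁻¹)⁻¹ = g * x * g⁻¹ by group]⟩

theorem not_DZ (h3 : r ≠ 3) (C : Cov6 θ z) {a b : L} (hne : b * a ≠ a * b) (w : L)
    (hw : θ w * θ a * (θ w)⁻¹ ∈ TT chevE6 (KK r)) : θ w * θ b * (θ w)⁻¹ ∉ DZ hpE6 r {θ w * θ a * (θ w)⁻¹} := fun h => by
  rw [← map_inv, ← map_mul, ← map_mul] at hw
  rw [← map_inv, ← map_mul, ← map_mul, ← map_mul, ← map_mul] at h
  have h1 := comm_of_DZ_one C.toCov (cop3 h3) hw h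
  rw [conj_mul, conj_mul, mul_left_inj, mul_right_inj] at h1
  exact hne h1

theorem typ_or (h3 : r ≠ 3) (C : Cov6 θ z) {a b : L} (ha : θ a ^ 3 = 1) (hab : θ b * θ a = θ a * θ b)
    (hne : b * a ≠ a * b) : TypA (θ a) ∨ TypD (θ a) := by
  obtain ⟨g, hg⟩ := exists_conj_T hpE6 (x := θ a) Nat.prime_three h3.symm (n := 1) (show θ a ^ 3 = 1 from ha)
  obtain ⟨w, rfl⟩ := C.surj g
  have e : (θ w)⁻¹ * (θ w * θ a * (θ w)⁻¹) * (θ w)⁻¹⁻¹ = θ a := by group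
  rcases boxTY1 r h3 _ hg (by rw [conj_pow, ha, mul_one, mul_inv_cancel]) _ (by rw [conj_mul, conj_mul, hab])
    (not_DZ h3 C hne w hg) with h | h
  · exact Or.inl (e ▸ typA_conj h _)
  · exact Or.inr (e ▸ TypD.conj h _)

theorem not_allA (hA : NoA) (h3 : r ≠ 3) (C : Cov6 θ z) {a b : L} (hb : θ b ^ 3 = 1) (hab : θ b * θ a = θ a * θ b)
    (hne : b * a ≠ a * b) (h1 : TypA (θ a)) (h2 : TypA (θ b)) (h4 : TypA (θ a * θ b)) (h5 : TypA (θ a * θ a * θ b)) :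
    False := by
  obtain ⟨g, ζ, h⟩ := h1
  obtain ⟨w, rfl⟩ := C.surj g
  refine hA r h3 ζ _ _ h (by rw [conj_mul, conj_mul, hab]) (not_DZ h3 C hne w h.2.1)
    (by rw [conj_pow, hb, mul_one, mul_inv_cancel]) (typA_conj h2 _) ?_ ?_
  · rw [conj_mul]
    exact typA_conj h4 _
  · rw [conj_mul, conj_mul]
    exact typA_conj h5 _

end Cover

variable {S : Type} [Group S] (Γ : St r S)

theorem ext_aut (α : MulAut S) : ∃ β : MulAut (YY chevE6 r), ∀ s, Γ.s.ι (α s) = β (Γ.s.ι s) := by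
  obtain ⟨g, -, β, -, -, -, h⟩ := Γ.s.aut α
  exact ⟨MulAut.conj g * β, h⟩

theorem inn_le : Inn S ≤ Γ.Dg := by
  rintro _ ⟨x, rfl⟩
  exact ⟨Γ.s.ι x, Γ.fix x, fun a => by simp⟩

theorem mem_inn {α : MulAut S} {g : YY chevE6 r} (h : ∀ a, Γ.s.ι (α a) = g * Γ.s.ι a * g⁻¹) (hg : g ∈ Γ.s.ι.range) :
    α ∈ Inn S := by
  obtain ⟨x, rfl⟩ := hg
  exact ⟨x, MulEquiv.ext fun a => Γ.inj (by rw [h]; simp)⟩

theorem pow_act {α : MulAut S} {g : YY chevE6 r} (h : ∀ a, Γ.s.ι (α a) = g * Γ.s.ι a * g⁻¹) (n : ℕ) (a : S) :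
    Γ.s.ι ((α ^ n) a) = g ^ n * Γ.s.ι a * (g ^ n)⁻¹ := by
  induction n with
  | zero => simp
  | succ n ih =>
    rw [pow_succ', MulAut.mul_apply, h, ih, pow_succ']
    group

/-- all diagonal automorphisms from one of them -/
theorem exists_of {A : Subgroup (MulAut S)} (hA : Inn S ≤ A) {α : MulAut S} (h1 : α ∈ A) {g : YY chevE6 r}
    (hg : Γ.X.F g = g) (h : ∀ a, Γ.s.ι (α a) = g * Γ.s.ι a * g⁻¹) (hn : g ∉ Γ.s.ι.range) {w : YY chevE6 r}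
    (hw : Γ.X.F w = w) : ∃ β ∈ A, ∀ a, Γ.s.ι (β a) = w * Γ.s.ι a * w⁻¹ := by
  obtain ⟨n, x, hx⟩ := Γ.exists_zpow hg hn hw
  obtain ⟨y, hy⟩ := Γ.cube hg
  obtain ⟨m, hm⟩ := Int.eq_ofNat_of_zero_le (Int.emod_nonneg n three_ne_zero)
  have e : w = Γ.s.ι (x * y ^ (n / 3)) * g ^ m := by
    rw [map_mul, map_zpow, hx, hy, ← zpow_natCast, ← zpow_natCast, ← hm, ← zpow_mul, mul_assoc, ← zpow_add]
    rw [show ((3 : ℕ) : ℤ) * (n / 3) + n % 3 = n from Int.mul_ediv_add_emod n 3, inv_mul_cancel_right]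
  refine ⟨MulAut.conj (x * y ^ (n / 3)) * α ^ m, mul_mem (hA ⟨_, rfl⟩) (pow_mem h1 m), fun a => ?_⟩
  rw [MulAut.mul_apply, MulAut.conj_apply, map_mul, map_mul, map_inv, pow_act Γ h, e]
  group

theorem relIndex_Dg : (Inn S).relIndex Γ.Dg ∣ 3 := by
  by_cases h : Γ.Dg ≤ Inn S
  · rw [relIndex_eq_one.2 h]
    exact one_dvd _
  obtain ⟨α, ⟨g, hg, h1⟩, h2⟩ := SetLike.not_le_iff_exists.1 h
  let π := QuotientGroup.mk' ((Inn S).subgroupOf Γ.Dg)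
  have h3 : ∀ x, x ∈ zpowers (π ⟨α, g, hg, h1⟩) := fun x => by
    obtain ⟨⟨β, w, hw, h4⟩, rfl⟩ := QuotientGroup.mk'_surjective _ x
    obtain ⟨γ, h5, h6⟩ := exists_of Γ (A := ((zpowers (π ⟨α, g, hg, h1⟩)).comap π).map Γ.Dg.subtype)
      (fun y hy => ⟨⟨y, inn_le Γ hy⟩, by
        rw [SetLike.mem_coe, mem_comap, show π ⟨y, inn_le Γ hy⟩ = 1 from (QuotientGroup.eq_one_iff _).2 hy]
        exact one_mem _, rfl⟩) ⟨⟨α, g, hg, h1⟩, mem_zpowers _, rfl⟩ hg h1 (fun h => h2 (mem_inn Γ h1 h)) hw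
    obtain ⟨γ, h7, rfl⟩ := h5
    have h8 : γ = ⟨β, w, hw, h4⟩ := Subtype.ext (MulEquiv.ext fun a => Γ.inj ((h6 a).trans (h4 a).symm))
    exact h8 ▸ h7
  rw [relIndex, index, ← orderOf_eq_card_of_forall_mem_zpowers h3]
  refine orderOf_dvd_of_pow_eq_one ?_
  rw [← map_pow]
  exact (QuotientGroup.eq_one_iff _).2 (mem_inn Γ (pow_act Γ h1 3) (Γ.cube hg))

theorem index_Dg (hq : r ^ Γ.e = 2) (hπ : Γ.π = rho6) : Γ.Dg.index ∣ 2 := by
  have he : Γ.e = 1 := ((Nat.Prime.pow_eq_iff Nat.prime_two).1 hq).2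
  have h1 : ∀ (i j : ℕ) (y : YY chevE6 r), frobA hpE6.inList r (i + j) y =
      frobA hpE6.inList r i (frobA hpE6.inList r j y) := fun i j y => by
    rw [frobA_apply, frobA_apply, frobA_apply, emb_comp, iterateFrobenius_add]
  have h2 : ∀ a, frobA hpE6.inList r 2 (Γ.s.ι a) = Γ.s.ι a := fun a => by
    have h := Γ.sq hπ
    rw [he] at h
    rw [← h, pow_two, MulAut.mul_apply, Γ.fix, Γ.fix]
  have h4 : ∀ j : ℕ, (∀ a, frobA hpE6.inList r j (Γ.s.ι a) = Γ.s.ι a) ∨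
      ∀ a, frobA hpE6.inList r j (Γ.s.ι a) = frobA hpE6.inList r 1 (Γ.s.ι a) := fun j => by
    induction j using Nat.twoStepInduction with
    | zero =>
      refine Or.inl fun a => (frobA hpE6.inList r 2).injective ?_
      rw [← h1]
    | one => exact Or.inr fun _ => rfl
    | more n ih _ => simpa only [h1, h2] using ih
  have h5 : ∀ α, α ∉ Γ.Dg → ∃ g, Γ.X.F g = g ∧ ∀ a, Γ.s.ι (α a) = g * frobA hpE6.inList r 1 (Γ.s.ι a) * g⁻¹ :=
    fun α hα => by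
      obtain ⟨g, hg, j, h⟩ := Γ.tw hπ α
      rcases h4 j with h6 | h6
      · exact absurd ⟨g, hg, fun a => by rw [h, h6]⟩ hα
      · exact ⟨g, hg, fun a => by rw [h, h6]⟩
  by_cases h : ∀ α, α ∈ Γ.Dg
  · exact index_dvd_two_iff.2 ⟨1, fun β => Or.inr (h β)⟩
  obtain ⟨α, hα⟩ := not_forall.1 h
  refine index_dvd_two_iff.2 ⟨α⁻¹, fun β => or_iff_not_imp_right.2 fun hβ => ?_⟩
  obtain ⟨g, g1, g2⟩ := h5 α hα
  obtain ⟨k, k1, k2⟩ := h5 β hβ
  refine ⟨k * g⁻¹, by rw [map_mul, map_inv, g1, k1], fun a => ?_⟩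
  have h6 := g2 (α⁻¹ a)
  rw [MulAut.apply_inv_self] at h6
  rw [MulAut.mul_apply, k2, h6]
  group

/-- **[NonT]** -/
theorem nonT (hA : NoA) (hT : SameT) : NonT := by
  intro r _ S _ Γ G _ _ σ M b D H hN
  obtain ⟨z, C⟩ := boxCovII r Γ.h3
  have K := k3 C
  have P := blk.pure G 3 M b D S σ H
  have hS : commutator S = ⊤ := by
    rw [commutator_def, ← map_top_of_surjective σ H.surj, ← map_commutator, ← commutator_def, H.perf]
  have : Finite S := Finite.of_surjective σ H.surj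
  -- generators
  have hnt : Nontrivial (D.map σ) := by
    by_contra h
    have := not_nontrivial_iff_subsingleton.1 h
    exact P.nc inferInstance
  have := P.pg.center_nontrivial
  obtain ⟨⟨x, hx⟩, hx1⟩ := exists_ne (1 : center (D.map σ))
  have x1 : (x : S) ≠ 1 := fun h => hx1 (Subtype.ext (Subtype.ext h))
  have xc : ∀ y ∈ D.map σ, y * x = x * y := fun y hy => congrArg Subtype.val (mem_center_iff.1 hx ⟨y, hy⟩)
  obtain ⟨y, hy⟩ : ∃ y : D.map σ, y ∉ zpowers x := by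
    by_contra h
    exact P.nc ⟨x, fun y => not_not.1 fun h1 => h ⟨y, h1⟩⟩
  obtain ⟨a, a1, a2⟩ := Γ.exists_fix hS x
  obtain ⟨c, c1, c2⟩ := Γ.exists_fix hS y
  have hm : ∀ s : D.map σ, Γ.s.ι s ∈ (D.map σ).map Γ.s.ι := fun s => ⟨s, s.2, rfl⟩
  have hab : th6 r c * th6 r a = th6 r a * th6 r c := by rw [a2, c2, ← map_mul, ← map_mul, xc y y.2]
  have a0 : th6 r a ≠ 1 := fun h => x1 (Γ.inj (by rw [← a2, h, map_one]))
  have hne : c * a ≠ a * c := fun h => by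
    rcases hN a c (a2 ▸ hm x) (c2 ▸ hm y) h.symm with h1 | ⟨n, h1⟩
    · exact a0 h1
    · refine hy ⟨n, Subtype.ext (Γ.inj ?_)⟩
      rw [← c2, ← h1]
      simp [a2]
  have hQ : ∀ w, w ∈ (D.map σ).map Γ.s.ι ↔ ∃ i j : ℕ, w = th6 r a ^ i * th6 r c ^ j := fun w => by
    refine ⟨fun hw => ?_, ?_⟩
    · obtain ⟨w, rfl⟩ := C.surj w
      have h1 : th6 r w * th6 r a = th6 r a * th6 r w := by
        obtain ⟨s, hs, e⟩ := hw
        rw [← e, a2, ← map_mul, ← map_mul, xc s hs]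
      obtain ⟨j, hj⟩ := K.gen _ _ (comm_ker hab.symm) (comm_ne hne.symm) (comm_ker h1.symm)
      have h2 : a * ((c ^ j)⁻¹ * w) = (c ^ j)⁻¹ * w * a := by
        have h3 := Nil.cent_conj_pow K.cent hab j
        rw [← hj, commutatorElement_def, inv_mul_cancel_right] at h3
        calc a * ((c ^ j)⁻¹ * w) = (c ^ j)⁻¹ * (c ^ j * a * (c ^ j)⁻¹) * w := by group
          _ = _ := by rw [h3]; group
      have h3 : th6 r ((c ^ j)⁻¹ * w) ∈ (D.map σ).map Γ.s.ι := by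
        rw [map_mul, map_inv, map_pow, c2]
        exact mul_mem (inv_mem (pow_mem (hm y) j)) hw
      rcases hN a _ (a2 ▸ hm x) h3 h2 with h4 | h4
      · exact absurd h4 a0
      · have h5 : IsOfFinOrder (th6 r a) := a2 ▸ Γ.s.ι.isOfFinOrder (isOfFinOrder_of_finite _)
        obtain ⟨i, hi⟩ := h5.mem_powers_iff_mem_zpowers.2 h4
        refine ⟨i, j, ?_⟩
        have h6 : th6 r a ^ i = th6 r ((c ^ j)⁻¹ * w) := hi
        rw [(Commute.pow_pow hab.symm i j).eq, h6, map_mul, map_inv, map_pow, mul_inv_cancel_left]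
    · rintro ⟨i, j, rfl⟩
      exact mul_mem (pow_mem (a2 ▸ hm x) i) (pow_mem (c2 ▸ hm y) j)
  have hab' : D.map σ ≤ Ce (D.map σ) := fun s hs => mem_centralizer_iff.2 fun t ht => Γ.inj (by
    obtain ⟨i, j, h1⟩ := (hQ _).1 (hm ⟨s, hs⟩)
    obtain ⟨i', j', h2⟩ := (hQ _).1 (hm ⟨t, ht⟩)
    have h3 : Commute (th6 r a) (th6 r c) := hab.symm
    rw [map_mul, map_mul, h1, h2]
    exact ((((Commute.refl _).pow_pow _ _).mul_right (h3.pow_pow _ _)).mul_left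
      ((h3.symm.pow_pow _ _).mul_right ((Commute.refl _).pow_pow _ _))).eq)
  have h3 : ∀ s ∈ D.map σ, s ^ 3 = 1 := fun s hs =>
    P.expo s (mem_centralizer_iff.2 fun t ht => ((closure_le (centralizer {s})).2 (fun t ht =>
      mem_centralizer_singleton_iff.2 (mem_centralizer_iff.1 ht.1 s hs).symm) ht : _)
      |> mem_centralizer_singleton_iff.1) (pElt_of_mem P.pg hs)
  have a3 : th6 r a ^ 3 = 1 := by rw [a2, ← map_pow, h3 x x.2, map_one]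
  have c3 : th6 r c ^ 3 = 1 := by rw [c2, ← map_pow, h3 y y.2, map_one]
  have y1 : ∀ n : ℕ, (x : S) ^ n * y ≠ 1 := fun n h => hy (by
    rw [show y = (x ^ n)⁻¹ from Subtype.ext (eq_inv_of_mul_eq_one_right h)]
    exact inv_mem (pow_mem (mem_zpowers x) n))
  have ta : TypD (th6 r a) := (typ_or Γ.h3 C a3 hab hne).resolve_left fun h => by
    have h1 : ∀ n : ℕ, TypA (th6 r a ^ n * th6 r c) := fun n => by
      rw [a2, c2, ← map_pow, ← map_mul]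
      exact (hT r S Γ _ _ P x x.2 _ (mul_mem (pow_mem x.2 n) y.2) x1 (y1 n)).1 (a2 ▸ h)
    exact not_allA hA Γ.h3 C c3 hab hne h (by simpa using h1 0) (by simpa using h1 1) (by simpa [pow_two] using h1 2)
  have tc : TypD (th6 r c) := c2 ▸ (hT r S Γ _ _ P x x.2 y y.2 x1 (by simpa using y1 0)).2 (a2 ▸ ta)
  obtain ⟨e, u, v, Cf, hF⟩ := exists_cf_fix K hab hne C.surj (ds_of Γ.h3 C ta) (ds_of Γ.h3 C tc) hQ Γ.lift a1 c1
  have hc : ∀ x ∈ NN ((D.map σ).map Γ.s.ι), ∀ y ∈ NN ((D.map σ).map Γ.s.ι), ⁅x, y⁆ ∈ Γ.s.ι.range :=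
    fun x hx y hy => Γ.comm_mem (hF x hx) (hF y hy)
  rcases Γ.centre H with h | ⟨q2, hπ, h⟩
  · exact false_inj H Γ.inj Cf ((MonoidHom.ker_eq_bot_iff σ).1 (H.ker.trans h)) hc (ext_aut Γ)
  have i2 := index_Dg Γ q2 hπ
  have i6 : (Inn S).index ∣ 6 := by
    rw [← relIndex_mul_index (inn_le Γ)]
    exact mul_dvd_mul (relIndex_Dg Γ) i2
  by_cases h1 : Γ.Dg ⊓ Ind σ b ≤ Inn S
  · have h2 : (Inn S).relIndex (Ind σ b) = Γ.Dg.relIndex (Ind σ b) := by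
      rw [← inf_relIndex_right, ← inf_relIndex_right Γ.Dg]
      congr 1
      exact le_antisymm (inf_le_inf_right _ (inn_le Γ)) (le_inf h1 inf_le_right)
    have h4 : Γ.Dg.relIndex (Ind σ b) ≤ Γ.Dg.relIndex ⊤ := relIndex_le_of_le_right le_top (by
      rw [relIndex_top_right]
      exact ne_zero_of_dvd_ne_zero two_ne_zero i2)
    rw [relIndex_top_right] at h4
    exact absurd (blk.s1 G 3 M b D S σ H (h2 ▸ h4.trans (Nat.le_of_dvd two_pos i2))).1 (by decide)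
  · obtain ⟨α, ⟨⟨g, g1, g2⟩, h2⟩, h4⟩ := SetLike.not_le_iff_exists.1 h1
    refine false_two H Γ.inj Cf h.dvd hc (fun w hw => exists_of Γ H.inn_le h2 g1 g2
      (fun h5 => h4 (mem_inn Γ g2 h5)) (hF w hw)) (((relIndex_dvd_index_of_normal _ _).trans i6).trans (by decide))
      fun β _ => ?_
    obtain ⟨m, hm⟩ := i6
    rw [hm, pow_mul]
    exact pow_mem (pow_index_mem _ β) m

end Cfsg.Agent.TO.E6N
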