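import Cfsg.Agent.TO.E6N.Braid
import Mathlib.GroupTheory.Commutator.Basic
import Mathlib.GroupTheory.QuotientGroup.Basic

/-!
# S4817, `E₆`, `p = 3`, nontoral planes (helper28): the canonical group `3² : SL₂(3)`
-/

set_option autoImplicit false

namespace Cfsg.Agent.TO.E6N

open Subgroup
open scoped commutatorElement

variable {Y : Type*} [Group Y]

/-- the centralizer of the cubes in the centralizer -/
def SC (d : Y) : Subgroup Y := centralizer {x | ∃ y, y * d = d * y ∧ x = y ^ 3}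

theorem mem_SC {d s : Y} : s ∈ SC d ↔ ∀ y, y * d = d * y → y ^ 3 * s = s * y ^ 3 :=
  ⟨fun h y hy => mem_centralizer_iff.1 h _ ⟨y, hy, rfl⟩, fun h => mem_centralizer_iff.2 (by
    rintro _ ⟨y, hy, rfl⟩
    exact h y hy)⟩

theorem map_SC (β : MulAut Y) {d s : Y} (h : s ∈ SC d) : β s ∈ SC (β d) := mem_SC.2 fun y hy => by
  obtain ⟨y, rfl⟩ := β.surjective y
  rw [← map_mul, ← map_mul] at hy
  rw [← map_pow, ← map_mul, ← map_mul, mem_SC.1 h y (β.injective hy)]

theorem conj_SC (g : Y) {d s : Y} (h : s ∈ SC d) : g * s * g⁻¹ ∈ SC (g * d * g⁻¹) := map_SC (MulAut.conj g) h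

theorem SC_inv {d s : Y} (h : s ∈ SC d⁻¹) : s ∈ SC d := mem_SC.2 fun y hy =>
  mem_SC.1 h y (Commute.inv_right hy).eq

/-- the canonical subgroup of the normalizer -/
def NN (Q : Subgroup Y) : Subgroup Y := closure {s | s ∈ normalizer (Q : Set Y) ∧ ∃ d ∈ Q, d ≠ 1 ∧ s ∈ SC d}

theorem NN_le (Q : Subgroup Y) : NN Q ≤ normalizer (Q : Set Y) := (closure_le _).2 fun _ h => h.1

theorem map_norm {Q : Subgroup Y} {β : MulAut Y} (h : ∀ y, β y ∈ Q ↔ y ∈ Q) {s : Y} (hs : s ∈ normalizer (Q : Set Y)) :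
    β s ∈ normalizer (Q : Set Y) := mem_normalizer_iff.2 fun y => by
  obtain ⟨y, rfl⟩ := β.surjective y
  rw [← map_inv, ← map_mul, ← map_mul, h, h]
  exact mem_normalizer_iff.1 hs y

theorem map_NN {Q : Subgroup Y} {β : MulAut Y} (h : ∀ y, β y ∈ Q ↔ y ∈ Q) {x : Y} (hx : x ∈ NN Q) : β x ∈ NN Q := by
  have h1 : NN Q ≤ (NN Q).comap β.toMonoidHom := (closure_le _).2 fun s ⟨h1, d, h2, h3, h4⟩ =>
    subset_closure ⟨map_norm h h1, β d, (h d).2 h2, fun e => h3 (β.map_eq_one_iff.1 e), map_SC β h4⟩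
  exact h1 hx

/-- the cubes in the centralizer commute with `NN Q` -/
theorem cube_comm {Q : Subgroup Y} {y x : Y} (hy : y ∈ centralizer (Q : Set Y)) (hx : x ∈ NN Q) :
    y ^ 3 * x = x * y ^ 3 := by
  have h1 : NN Q ≤ centralizer {y ^ 3} := (closure_le _).2 fun s ⟨_, d, h2, _, h4⟩ =>
    mem_centralizer_singleton_iff.2 (mem_SC.1 h4 y (mem_centralizer_iff.1 hy d h2).symm).symm
  exact (mem_centralizer_singleton_iff.1 (h1 hx)).symm

/-- coordinates -/
abbrev V : Type := ZMod 3 × ZMod 3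

theorem V_ind {P : V → Prop} (h1 : P (1, 0)) (h2 : P (0, 1)) (h : ∀ x y, P x → P y → P (x + y)) (x : V) : P x := by
  have h3 : ∀ (y : V) (n : ℕ), P y → P ((n + 1) • y) := fun y n hy => by
    induction n with
    | zero => simpa using hy
    | succ n ih =>
      rw [succ_nsmul]
      exact h _ _ ih hy
  have h4 : ∀ x : V, x = (x.1.val + 2 + 1) • ((1, 0) : V) + (x.2.val + 2 + 1) • ((0, 1) : V) +
      ((1, 0) + (1, 0) + (1, 0)) := by decide
  rw [h4 x]
  exact h _ _ (h _ _ (h3 _ _ h1) (h3 _ _ h2)) (h _ _ (h _ _ h1 h1) h1)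

/-- the action of a word -/
def act : List Bool → V → V
  | [], x => x
  | true :: w, x => ((act w x).1, (act w x).1 + (act w x).2)
  | false :: w, x => ((act w x).1 - (act w x).2, (act w x).2)

theorem nfs_faith : ∀ w ∈ nfs, act w (1, 0) = (1, 0) → act w (0, 1) = (0, 1) → w = [] := by decide

/-- words in `i = t s⁻¹` and `j = s⁻¹ t` -/
def qw : List Bool → List Bool
  | [] => []
  | true :: w => false :: true :: true :: qw w
  | false :: w => true :: true :: false :: qw w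

theorem q_trans : ∀ x : V, x ≠ 0 → ∃ w ∈ [[], [true], [false], [true, true], [true, false], [false, true],
    [true, true, true], [false, false, false]], act (qw w) (1, 0) = x := by decide

/-- the configuration -/
structure Cf (Q : Subgroup Y) (e : V → Y) (u v : Y) : Prop where
  add : ∀ x y, e (x + y) = e x * e y
  inj : Function.Injective e
  mem : ∀ y, y ∈ Q ↔ ∃ x, e x = y
  cen : ∀ s ∈ SC (e (1, 0)), s * e (1, 0) = e (1, 0) * s
  fix : ∀ s ∈ SC (e (1, 0)), s * e (0, 1) = e (0, 1) * s → s ∈ Q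
  det : ∀ t ∈ normalizer (Q : Set Y), t * e (1, 0) * t⁻¹ = e (1, 0) → ∃ j, t * e (0, 1) * t⁻¹ = e (j, 1)
  hu : u ∈ SC (e (0, 1))
  ua : u * e (1, 0) * u⁻¹ = e (1, 1)
  ub : u * e (0, 1) * u⁻¹ = e (0, 1)
  hv : v ∈ SC (e (1, 0))
  vb : v * e (0, 1) * v⁻¹ = e (-1, 1)

namespace Cf

variable {Q : Subgroup Y} {e : V → Y} {u v : Y} (C : Cf Q e u v)
include C

theorem zero : e 0 = 1 := by
  have h := C.add 0 0
  rw [add_zero] at h
  exact mul_eq_left.1 h.symm

theorem neg (x : V) : e (-x) = (e x)⁻¹ := by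
  rw [eq_inv_iff_mul_eq_one, ← C.add, neg_add_cancel, C.zero]

theorem mem' (x : V) : e x ∈ Q := (C.mem _).2 ⟨x, rfl⟩

theorem comm {x y : Y} (hx : x ∈ Q) (hy : y ∈ Q) : x * y = y * x := by
  obtain ⟨x, rfl⟩ := (C.mem _).1 hx
  obtain ⟨y, rfl⟩ := (C.mem _).1 hy
  rw [← C.add, ← C.add, add_comm]

theorem ne {x : V} (h : x ≠ 0) : e x ≠ 1 := fun h1 => h (C.inj (h1.trans C.zero.symm))

theorem conj_eq {g : Y} {f : V → V} (hf : ∀ x y, f (x + y) = f x + f y) (h1 : g * e (1, 0) * g⁻¹ = e (f (1, 0)))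
    (h2 : g * e (0, 1) * g⁻¹ = e (f (0, 1))) (x : V) : g * e x * g⁻¹ = e (f x) :=
  V_ind (P := fun x => g * e x * g⁻¹ = e (f x)) h1 h2 (fun x y hx hy => by
    rw [hf, C.add, C.add, ← hx, ← hy, conj_mul]) x

theorem cen_of {g : Y} (h1 : g * e (1, 0) * g⁻¹ = e (1, 0)) (h2 : g * e (0, 1) * g⁻¹ = e (0, 1)) :
    g ∈ centralizer (Q : Set Y) := mem_centralizer_iff.2 fun y hy => by
  obtain ⟨x, rfl⟩ := (C.mem _).1 hy
  exact (mul_inv_eq_iff_eq_mul.1 (C.conj_eq (f := id) (fun _ _ => rfl) h1 h2 x)).symm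

theorem u_act (x : V) : u * e x * u⁻¹ = e (x.1, x.1 + x.2) :=
  C.conj_eq (f := fun x => (x.1, x.1 + x.2)) (by decide) C.ua C.ub x

theorem va : v * e (1, 0) * v⁻¹ = e (1, 0) := mul_inv_eq_iff_eq_mul.2 (C.cen v C.hv)

theorem v_act (x : V) : v * e x * v⁻¹ = e (x.1 - x.2, x.2) :=
  C.conj_eq (f := fun x => (x.1 - x.2, x.2)) (by decide) C.va C.vb x

theorem ev_act (w : List Bool) (x : V) : ev u v w * e x * (ev u v w)⁻¹ = e (act w x) := by
  induction w with
  | nil => simp [ev, act]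
  | cons c w ih =>
    cases c
    · rw [ev, act, ← C.v_act, ← ih]
      group
    · rw [ev, act, ← C.u_act, ← ih]
      group

theorem norm_of {g : Y} {f : V → V} (hf : Function.Surjective f) (h : ∀ x, g * e x * g⁻¹ = e (f x)) :
    g ∈ normalizer (Q : Set Y) := mem_normalizer_iff.2 fun y => ⟨fun hy => by
  obtain ⟨x, rfl⟩ := (C.mem _).1 hy
  rw [h]
  exact C.mem' _, fun hy => by
  obtain ⟨x, hx⟩ := (C.mem _).1 hy
  obtain ⟨x, rfl⟩ := hf x
  rw [← h, mul_left_inj, mul_right_inj] at hx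
  exact hx ▸ C.mem' x⟩

theorem u_norm : u ∈ normalizer (Q : Set Y) := C.norm_of (by decide) C.u_act

theorem v_norm : v ∈ normalizer (Q : Set Y) := C.norm_of (by decide) C.v_act

theorem u_mem : u ∈ NN Q := subset_closure ⟨C.u_norm, _, C.mem' _, C.ne (by decide), C.hu⟩

theorem v_mem : v ∈ NN Q := subset_closure ⟨C.v_norm, _, C.mem' _, C.ne (by decide), C.hv⟩

theorem ev_mem (w : List Bool) : ev u v w ∈ NN Q := by
  induction w with
  | nil => exact one_mem _
  | cons c w ih =>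
    cases c
    · exact mul_mem C.v_mem ih
    · exact mul_mem C.u_mem ih

theorem v3 : v ^ 3 ∈ Q := by
  refine C.fix _ (pow_mem C.hv 3) (mul_inv_eq_iff_eq_mul.1 ?_)
  have h := C.ev_act [false, false, false] (0, 1)
  rwa [show ev u v [false, false, false] = v ^ 3 by simp [ev, pow_succ, mul_assoc]] at h

/-- the braid relation modulo `Q` -/
theorem braid : v⁻¹ * (u * v * u * (u * v)⁻¹) ∈ Q := by
  have h1 := conj_SC (u * v) C.hu
  have h2 := C.ev_act [true, false] (0, 1)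
  rw [show ev u v [true, false] = u * v by simp [ev], show act [true, false] (0, 1) = -(1, 0) by decide, C.neg] at h2
  rw [h2] at h1
  refine C.fix _ (mul_mem (inv_mem C.hv) (SC_inv h1)) (mul_inv_eq_iff_eq_mul.1 ?_)
  have h3 : u * v * u * e (1, 0) * (u * v * u)⁻¹ = e (0, 1) := by
    have h := C.ev_act [true, false, true] (1, 0)
    rwa [show ev u v [true, false, true] = u * v * u by simp [ev, mul_assoc]] at h
  have h4 : v * u * v * e (1, 0) * (v * u * v)⁻¹ = e (0, 1) := by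
    have h := C.ev_act [false, true, false] (1, 0)
    rwa [show ev u v [false, true, false] = v * u * v by simp [ev, mul_assoc]] at h
  have h5 : u * v * e (1, 0) * (u * v)⁻¹ = e (1, 1) := by
    have h := C.ev_act [true, false] (1, 0)
    rwa [show ev u v [true, false] = u * v by simp [ev]] at h
  have h6 : u * v * e (1, 1) * (u * v)⁻¹ = e (0, 1) := by
    have h := C.ev_act [true, false] (1, 1)
    rwa [show ev u v [true, false] = u * v by simp [ev]] at h
  have h7 : u * e (1, 1) * u⁻¹ = e (1, 2) := C.u_act _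
  have h8 : u * v * e (1, 2) * (u * v)⁻¹ = e (-1, 1) := by
    have h := C.ev_act [true, false] (1, 2)
    rwa [show ev u v [true, false] = u * v by simp [ev]] at h
  calc v⁻¹ * (u * v * u * (u * v)⁻¹) * e (0, 1) * (v⁻¹ * (u * v * u * (u * v)⁻¹))⁻¹
      = v⁻¹ * (u * v * (u * e (1, 1) * u⁻¹) * (u * v)⁻¹) * v := by rw [← h6]; group
    _ = e (0, 1) := by rw [h7, h8, ← C.vb]; group

/-- every element of `NN Q` is a normal form times an element of `Q` -/
theorem exists_nf' (w : List Bool) : ∃ w' ∈ nfs, (ev u v w')⁻¹ * ev u v w ∈ Q := by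
  let N := normalizer (Q : Set Y)
  let π := QuotientGroup.mk' (Q.subgroupOf N)
  let u' : N := ⟨u, C.u_norm⟩
  let v' : N := ⟨v, C.v_norm⟩
  have hb : π v' * π u' * π v' = π u' * π v' * π u' := by
    have h : π v' = π (u' * v' * u' * (u' * v')⁻¹) := QuotientGroup.eq.2 C.braid
    simp only [map_mul, map_inv] at h
    calc π v' * π u' * π v' = π v' * (π u' * π v') := mul_assoc _ _ _
      _ = _ := by
        nth_rewrite 1 [h]
        group
  have hv : π v' ^ 3 = 1 := by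
    rw [← map_pow]
    exact (QuotientGroup.eq_one_iff _).2 C.v3
  have hu : π u' ^ 3 = 1 := by
    have h : π u' = (π u' * π v')⁻¹ * π v' * (π u' * π v')⁻¹⁻¹ := by
      rw [inv_inv, mul_assoc, ← mul_assoc (π v'), hb]
      group
    rw [h, conj_pow, hv]
    group
  have hev : ∀ w, ∃ x : N, (x : Y) = ev u v w ∧ π x = ev (π u') (π v') w := fun w => by
    induction w with
    | nil => exact ⟨1, rfl, map_one π⟩
    | cons c w ih =>
      obtain ⟨x, h1, h2⟩ := ih
      cases c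
      · exact ⟨v' * x, by rw [ev, ← h1]; rfl, by rw [ev, map_mul, h2]⟩
      · exact ⟨u' * x, by rw [ev, ← h1]; rfl, by rw [ev, map_mul, h2]⟩
  obtain ⟨w', h1, h2⟩ := exists_nf hu hv hb w
  obtain ⟨x, hx1, hx2⟩ := hev w
  obtain ⟨x', hx1', hx2'⟩ := hev w'
  refine ⟨w', h1, ?_⟩
  rw [← hx1, ← hx1']
  have h3 : π x' = π x := by rw [hx2, hx2', h2]
  exact mem_subgroupOf.1 (QuotientGroup.eq.1 h3)

theorem u3 : u ^ 3 ∈ Q := by
  obtain ⟨w, h1, h2⟩ := C.exists_nf' [true, true, true]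
  have h3 : ∀ x, act w x = act [true, true, true] x := fun x => C.inj (by
    rw [← C.ev_act, ← C.ev_act]
    have h4 := C.comm h2 (C.mem' x)
    calc ev u v w * e x * (ev u v w)⁻¹ = ev u v w * (e x * ((ev u v w)⁻¹ * ev u v [true, true, true])) *
          (ev u v [true, true, true])⁻¹ := by group
      _ = _ := by rw [← h4]; group)
  obtain rfl := nfs_faith w h1 (by rw [h3]; decide) (by rw [h3]; decide)
  simpa [ev, pow_succ, mul_assoc] using h2

omit C in
theorem ev_append (w w' : List Bool) : ev u v (w ++ w') = ev u v w * ev u v w' := by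
  induction w with
  | nil => simp [ev]
  | cons c w ih => cases c <;> simp [ev, ih, mul_assoc]

/-- the subgroup generated by `Q`, `u` and `v` -/
def N0 : Subgroup Y where
  carrier := {x | ∃ w, (ev u v w)⁻¹ * x ∈ Q}
  one_mem' := ⟨[], by simp [ev]⟩
  mul_mem' := by
    rintro x y ⟨w, hw⟩ ⟨w', hw'⟩
    refine ⟨w ++ w', ?_⟩
    have h := mul_mem ((mem_normalizer_iff.1 (inv_mem (NN_le Q (C.ev_mem w'))) _).1 hw) hw'
    rw [ev_append]
    convert h using 1
    group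
  inv_mem' := by
    rintro x ⟨w, hw⟩
    have h : ∀ w, ∃ w', ev u v w * ev u v w' ∈ Q := fun w => by
      induction w with
      | nil => exact ⟨[], by simp [ev]⟩
      | cons c w ih =>
        obtain ⟨w', h⟩ := ih
        cases c
        · refine ⟨w' ++ [false, false], ?_⟩
          have h1 := mul_mem ((mem_normalizer_iff.1 C.v_norm _).1 h) C.v3
          rw [ev_append]
          convert h1 using 1
          simp only [ev, pow_succ, pow_zero, one_mul, mul_one, mul_assoc, inv_mul_cancel_left]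
        · refine ⟨w' ++ [true, true], ?_⟩
          have h1 := mul_mem ((mem_normalizer_iff.1 C.u_norm _).1 h) C.u3
          rw [ev_append]
          convert h1 using 1
          simp only [ev, pow_succ, pow_zero, one_mul, mul_one, mul_assoc, inv_mul_cancel_left]
    obtain ⟨w', h⟩ := h w
    refine ⟨w', ?_⟩
    have h2 := (mem_normalizer_iff.1 (inv_mem (NN_le Q (C.ev_mem w'))) _).1
      ((mem_normalizer_iff.1 (inv_mem (NN_le Q (C.ev_mem w))) _).1 (inv_mem h))
    have h3 := mul_mem ((mem_normalizer_iff.1 (inv_mem (NN_le Q (C.ev_mem w'))) _).1 (inv_mem hw)) h2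
    convert h3 using 1
    group

theorem ev_N0 (w : List Bool) : ev u v w ∈ C.N0 := ⟨w, by simp⟩

theorem le_N0 : Q ≤ C.N0 := fun _ h => ⟨[], by simpa [ev] using h⟩

theorem exists_word {d : Y} (hd : d ∈ Q) (h1 : d ≠ 1) : ∃ w, ev u v (qw w) * e (1, 0) * (ev u v (qw w))⁻¹ = d := by
  obtain ⟨x, rfl⟩ := (C.mem _).1 hd
  obtain ⟨w, -, hw⟩ := q_trans x (by rintro rfl; exact h1 C.zero)
  exact ⟨w, by rw [C.ev_act, hw]⟩

theorem NN_le_N0 : NN Q ≤ C.N0 := (closure_le _).2 fun s ⟨h1, d, h2, h3, h4⟩ => by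
  obtain ⟨w, rfl⟩ := C.exists_word h2 h3
  set g := ev u v (qw w)
  have h5 := conj_SC g⁻¹ h4
  rw [show g⁻¹ * (g * e (1, 0) * g⁻¹) * g⁻¹⁻¹ = e (1, 0) by group] at h5
  have hg : g ∈ normalizer (Q : Set Y) := NN_le Q (C.ev_mem _)
  obtain ⟨j, hj⟩ := C.det _ (mul_mem (mul_mem (inv_mem hg) h1) (inv_mem (inv_mem hg)))
    (mul_inv_eq_iff_eq_mul.2 (C.cen _ h5))
  obtain ⟨w', h6, h7⟩ : ∃ w', ev u v w' ∈ SC (e (1, 0)) ∧ act w' (j, 1) = (0, 1) := by
    have h8 : ∀ j : ZMod 3, j = 0 ∨ j = 1 ∨ j = 2 := by decide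
    rcases h8 j with rfl | rfl | rfl
    · exact ⟨[], one_mem _, rfl⟩
    · exact ⟨[false], mul_mem C.hv (one_mem _), by decide⟩
    · exact ⟨[false, false], mul_mem C.hv (mul_mem C.hv (one_mem _)), by decide⟩
  have h8 : ev u v w' * (g⁻¹ * s * g⁻¹⁻¹) ∈ Q := by
    refine C.fix _ (mul_mem h6 h5) (mul_inv_eq_iff_eq_mul.1 ?_)
    calc _ = ev u v w' * (g⁻¹ * s * g⁻¹⁻¹ * e (0, 1) * (g⁻¹ * s * g⁻¹⁻¹)⁻¹) * (ev u v w')⁻¹ := by group
      _ = _ := by rw [hj, C.ev_act, h7]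
  have hg' : g ∈ C.N0 := C.ev_N0 (qw w)
  have h9 := mul_mem (mul_mem hg' (mul_mem (inv_mem (C.ev_N0 w')) (C.le_N0 h8))) (inv_mem hg')
  show s ∈ C.N0
  convert h9 using 1
  group

/-- **`NN Q` meets the centralizer in `Q`** -/
theorem mem_of_cen {x : Y} (hx : x ∈ NN Q) (hc : x ∈ centralizer (Q : Set Y)) : x ∈ Q := by
  obtain ⟨w, hw⟩ := C.NN_le_N0 hx
  obtain ⟨w', h1, h2⟩ := C.exists_nf' w
  have h3 : (ev u v w')⁻¹ * x ∈ Q := by
    convert mul_mem h2 hw using 1
    group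
  have h4 : ∀ y, act w' y = y := fun y => C.inj (by
    rw [← C.ev_act]
    have h5 := C.comm h3 (C.mem' y)
    have h6 := mem_centralizer_iff.1 hc _ (C.mem' y)
    calc ev u v w' * e y * (ev u v w')⁻¹ = ev u v w' * (e y * ((ev u v w')⁻¹ * x)) * x⁻¹ := by group
      _ = x * e y * x⁻¹ := by rw [← h5]; group
      _ = e y := by rw [← h6]; group)
  obtain rfl := nfs_faith w' h1 (h4 _) (h4 _)
  simpa [ev] using h3

/-- a subgroup which contains `Q` and the commutators -/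
theorem qw_mem {K : Subgroup Y} (h1 : Q ≤ K) (h2 : ∀ x ∈ NN Q, ∀ y ∈ NN Q, ⁅x, y⁆ ∈ K) (w : List Bool) :
    ev u v (qw w) ∈ K := by
  have h3 : v * u⁻¹ ∈ K := by
    have h4 := h2 _ (mul_mem C.u_mem C.v_mem) _ C.u_mem
    have h5 := (mem_normalizer_iff.1 C.v_norm _).1 (inv_mem C.braid)
    convert mul_mem (h1 h5) h4 using 1
    rw [commutatorElement_def]
    group
  have hi : v * (u * u) ∈ K := by
    convert mul_mem h3 (h1 C.u3) using 1
    rw [pow_succ, pow_two]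
    group
  have hj : u * (u * v) ∈ K := by
    convert mul_mem (h2 _ (mul_mem C.u_mem C.u_mem) _ C.v_mem) hi using 1
    rw [commutatorElement_def]
    group
  induction w with
  | nil => exact one_mem _
  | cons c w ih =>
    cases c
    · convert mul_mem hj ih using 1
      simp only [qw, ev, mul_assoc]
    · convert mul_mem hi ih using 1
      simp only [qw, ev, mul_assoc]

/-- **transitivity** -/
theorem trans {K : Subgroup Y} (h1 : Q ≤ K) (h2 : ∀ x ∈ NN Q, ∀ y ∈ NN Q, ⁅x, y⁆ ∈ K) {d d' : Y} (hd : d ∈ Q)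
    (hd' : d' ∈ Q) (h3 : d ≠ 1) (h4 : d' ≠ 1) : ∃ k ∈ K, k ∈ NN Q ∧ k * d * k⁻¹ = d' := by
  obtain ⟨w, rfl⟩ := C.exists_word hd h3
  obtain ⟨w', rfl⟩ := C.exists_word hd' h4
  exact ⟨ev u v (qw w') * (ev u v (qw w))⁻¹, mul_mem (C.qw_mem h1 h2 _) (inv_mem (C.qw_mem h1 h2 _)),
    mul_mem (C.ev_mem _) (inv_mem (C.ev_mem _)), by group⟩

/-- **the stabiliser of a nontrivial element acts unipotently** -/
theorem cube_cen {t d : Y} (ht : t ∈ normalizer (Q : Set Y)) (hd : d ∈ Q) (h1 : d ≠ 1) (h2 : t * d * t⁻¹ = d) :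
    t ^ 3 ∈ centralizer (Q : Set Y) := by
  obtain ⟨w, rfl⟩ := C.exists_word hd h1
  set g := ev u v (qw w)
  have hg : g ∈ normalizer (Q : Set Y) := NN_le Q (C.ev_mem _)
  have h3 : g⁻¹ * t * g * e (1, 0) * (g⁻¹ * t * g)⁻¹ = e (1, 0) := by
    calc _ = g⁻¹ * (t * (g * e (1, 0) * g⁻¹) * t⁻¹) * g := by group
      _ = _ := by rw [h2]; group
  obtain ⟨j, hj⟩ := C.det _ (mul_mem (mul_mem (inv_mem hg) ht) hg) h3
  have h4 := C.conj_eq (g := g⁻¹ * t * g) (f := fun x => (x.1 + j * x.2, x.2)) (fun x y => by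
    ext
    · simp only [Prod.fst_add, Prod.snd_add]; ring
    · rfl) (by rw [h3, mul_zero, add_zero]) (by rw [hj, mul_one, zero_add])
  have h5 : ∀ x, (g⁻¹ * t * g) ^ 3 * e x * ((g⁻¹ * t * g) ^ 3)⁻¹ = e x := fun x => by
    have h6 : ∀ (j : ZMod 3) (x : V), ((x.1 + j * x.2 + j * x.2 + j * x.2, x.2) : V) = x := by decide
    generalize g⁻¹ * t * g = s at h4
    calc s ^ 3 * e x * (s ^ 3)⁻¹ = s * (s * (s * e x * s⁻¹) * s⁻¹) * s⁻¹ := by rw [pow_succ, pow_two]; group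
      _ = e x := by rw [h4, h4, h4, h6]
  refine mem_centralizer_iff.2 fun y hy => ?_
  obtain ⟨x, hx⟩ := (C.mem _).1 ((mem_normalizer_iff.1 (inv_mem hg) y).1 hy)
  have h6 := h5 x
  rw [hx, show g⁻¹ * t * g = g⁻¹ * t * g⁻¹⁻¹ by rw [inv_inv], conj_pow] at h6
  calc y * t ^ 3 = g * (g⁻¹ * y * g⁻¹⁻¹) * g⁻¹ * t ^ 3 := by group
    _ = _ := by rw [← h6]; group

theorem u_not_cen : u ∉ centralizer (Q : Set Y) := fun h => by
  have h1 := C.ua
  rw [← mem_centralizer_iff.1 h _ (C.mem' _), mul_inv_cancel_right] at h1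
  exact absurd (C.inj h1) (by decide)

theorem card : Nat.card Q = 9 := by
  have h : Nat.card V = Nat.card Q := Nat.card_eq_of_bijective (fun x => ⟨e x, C.mem' x⟩)
    ⟨fun x y h => C.inj (congrArg Subtype.val h), fun y => by
      obtain ⟨x, hx⟩ := (C.mem _).1 y.2
      exact ⟨x, Subtype.ext hx⟩⟩
  rw [← h, Nat.card_prod, Nat.card_zmod]

end Cf

end Cfsg.Agent.TO.E6N
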