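import Mathlib.GroupTheory.Subgroup.Centralizer
import Mathlib.Data.ZMod.Basic
import Mathlib.Tactic.Group

/-!
# S4817, `E₆`, `p = 3`, nontoral planes (helper28): the group `⟨s, t | s³, t³, sts = tst⟩` has at most `24` elements
-/

set_option autoImplicit false

namespace Cfsg.Agent.TO.E6N

/-- the value of a word -/
def ev {E : Type*} [Group E] (s t : E) : List Bool → E
  | [] => 1
  | true :: w => s * ev s t w
  | false :: w => t * ev s t w

/-- one rewriting step -/
def rw1 : List Bool → List Bool
  | true :: true :: true :: w => w
  | false :: false :: false :: w => w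
  | false :: true :: false :: w => true :: false :: true :: w
  | false :: true :: true :: false :: true :: w => true :: false :: true :: true :: false :: w
  | false :: false :: true :: true :: false :: w => true :: false :: false :: true :: true :: w
  | true :: false :: true :: true :: false :: false :: w => false :: false :: true :: w
  | false :: true :: true :: false :: false :: w => true :: true :: false :: false :: true :: w
  | c :: w => c :: rw1 w
  | [] => []

/-- the normal forms -/
def nfs : List (List Bool) :=
  [[], [true], [false], [true, true], [true, false], [false, true], [false, false], [true, true, false],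
    [true, false, true], [true, false, false], [false, true, true], [false, false, true], [true, true, false, true],
    [true, true, false, false], [true, false, true, true], [true, false, false, true], [false, true, true, false],
    [false, false, true, true], [true, true, false, true, true], [true, true, false, false, true],
    [true, false, true, true, false], [true, false, false, true, true], [true, true, false, true, true, false],
    [true, true, false, false, true, true]]

theorem nfs_closed : ∀ w ∈ nfs, ∀ c, rw1 (rw1 (rw1 (rw1 (c :: w)))) ∈ nfs := by decide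

variable {E : Type*} [Group E] {s t : E}

theorem ev_rw1 (hs : s ^ 3 = 1) (ht : t ^ 3 = 1) (hb : t * s * t = s * t * s) (w : List Bool) :
    ev s t (rw1 w) = ev s t w := by
  have r0 : ∀ x, s * (s * (s * x)) = x := fun x => by
    rw [← mul_assoc, ← mul_assoc, ← pow_three', hs, one_mul]
  have r1 : ∀ x, t * (t * (t * x)) = x := fun x => by
    rw [← mul_assoc, ← mul_assoc, ← pow_three', ht, one_mul]
  have r2 : ∀ x, t * (s * (t * x)) = s * (t * (s * x)) := fun x => by
    rw [← mul_assoc, ← mul_assoc, hb, mul_assoc, mul_assoc]
  have r3 : ∀ x, t * (s * (s * (t * (s * x)))) = s * (t * (s * (s * (t * x)))) := fun x => by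
    rw [← r2 x, r2 (s * (t * x))]
  have r5 : ∀ x, s * (t * (s * (s * (t * (t * x))))) = t * (t * (s * x)) := fun x => by
    rw [← r3, r2 x, r0]
  have r6 : ∀ x, t * (s * (s * (t * (t * x)))) = s * (s * (t * (t * (s * x)))) := fun x => by
    rw [← r5 x, r0]
  have r4 : ∀ x, t * (t * (s * (s * (t * x)))) = s * (t * (t * (s * (s * x)))) := fun x => by
    have h1 := r3 (s * (t * (s * x)))
    rwa [r3 x, r2, r0, r0] at h1
  fun_induction rw1 w with
  | case1 w => exact (r0 _).symm
  | case2 w => exact (r1 _).symm
  | case3 w => exact (r2 _).symm
  | case4 w => exact (r3 _).symm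
  | case5 w => exact (r4 _).symm
  | case6 w => exact (r5 _).symm
  | case7 w => exact (r6 _).symm
  | case8 c w _ _ _ _ _ _ _ ih => cases c <;> simp only [ev, ih]
  | case9 => rfl

theorem exists_nf (hs : s ^ 3 = 1) (ht : t ^ 3 = 1) (hb : t * s * t = s * t * s) (w : List Bool) :
    ∃ w' ∈ nfs, ev s t w = ev s t w' := by
  induction w with
  | nil => exact ⟨[], by decide, rfl⟩
  | cons c w ih =>
    obtain ⟨w', h1, h2⟩ := ih
    refine ⟨_, nfs_closed w' h1 c, ?_⟩
    rw [ev_rw1 hs ht hb, ev_rw1 hs ht hb, ev_rw1 hs ht hb, ev_rw1 hs ht hb]
    cases c <;> simp only [ev, h2]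

end Cfsg.Agent.TO.E6N
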