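import Cfsg.Agent.TO.E6N.Abs
import Cfsg.Agent.BHZ.Exc.DHZ

/-!
# S4817, `E₆`, `p = 3`, nontoral planes (helper28): the configuration from the covering group
-/

set_option autoImplicit false

namespace Cfsg.Agent.TO.E6N

open Subgroup Cfsg.Agent.BHZ Cfsg.Agent.BHZ.Exc Cfsg.Agent.BHZ.Exc.DT
open scoped commutatorElement

variable {L Y : Type*} [Group L] [Group Y] {θ : L →* Y}

theorem SC_of_SS (K : K3 θ) (hs : Function.Surjective θ) {x u : L} (h : u ∈ SS x) : θ u ∈ SC (θ x) :=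
  mem_SC.2 fun y hy => by
    obtain ⟨y, rfl⟩ := hs y
    have h1 := Nil.cent_conj_pow K.cent hy 3
    rw [K.expo _ (comm_ker hy.symm), one_mul] at h1
    rw [← map_pow, ← map_mul, mem_SS.1 h _ (mul_inv_eq_iff_eq_mul.1 h1), map_mul]

/-- an element of type `D₄ T₂` -/
structure Ds (θ : L →* Y) (x : L) : Prop where
  dt : Dt θ x
  sc : ∀ u, θ u ∈ SC (θ x) → u ∈ SS x

theorem Ds.of_conj {x w : L} (h : Ds θ (w * x * w⁻¹)) : Ds θ x := ⟨h.dt.of_conj, fun u hu => by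
  have h1 := conj_SC (θ w) hu
  rw [← map_inv, ← map_mul, ← map_mul, ← map_mul, ← map_mul] at h1
  have h2 := conj_mem_SS' (h.sc _ h1)
  rwa [show w⁻¹ * (w * u * w⁻¹) * w = u by group] at h2⟩

/-- coordinates -/
def ee (a b : Y) (x : V) : Y := a ^ x.1.val * b ^ x.2.val

variable (K : K3 θ) {a b : L} (hab : θ b * θ a = θ a * θ b) (hne : b * a ≠ a * b)
include K hab hne

theorem eq_zero_of_comm {j : ZMod 3} (h : b ^ j.val * a = a * b ^ j.val) : j = 0 := by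
  have h1 := Nil.cent_conj_pow K.cent hab j.val
  rw [h, mul_inv_cancel_right, right_eq_mul] at h1
  have : Fact (Nat.Prime 3) := ⟨Nat.prime_three⟩
  have h2 := orderOf_dvd_of_pow_eq_one h1
  rw [orderOf_eq_prime (K.expo _ (comm_ker hab.symm)) (comm_ne (Ne.symm hne))] at h2
  exact (ZMod.val_eq_zero j).1 (Nat.eq_zero_of_dvd_of_lt h2 j.val_lt)

/-- **the configuration** -/
theorem exists_cf (hs : Function.Surjective θ) (ha : Ds θ a) (hb : Ds θ b) {Q : Subgroup Y}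
    (hQ : ∀ y, y ∈ Q ↔ ∃ i j : ℕ, y = θ a ^ i * θ b ^ j) :
    ∃ u ∈ SS b, ∃ v ∈ SS a, Cf Q (ee (θ a) (θ b)) (θ u) (θ v) := by
  have a3 := ha.dt.pow
  have b3 := hb.dt.pow
  have hc : Commute (θ a) (θ b) := hab.symm
  have e10 : ee (θ a) (θ b) (1, 0) = θ a := by simp [ee, ZMod.val_one]
  have e01 : ee (θ a) (θ b) (0, 1) = θ b := by simp [ee, ZMod.val_one]
  have add : ∀ x y, ee (θ a) (θ b) (x + y) = ee (θ a) (θ b) x * ee (θ a) (θ b) y := fun x y => by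
    simp only [ee, Prod.fst_add, Prod.snd_add, ZMod.val_add]
    rw [← pow_eq_pow_mod _ a3, ← pow_eq_pow_mod _ b3, pow_add, pow_add, (hc.pow_pow _ _).symm.mul_mul_mul_comm]
  have hker : ∀ x, ee (θ a) (θ b) x = 1 → x = 0 := fun x hx => by
    have h1 : θ (a ^ x.1.val * b ^ x.2.val) = 1 := by rw [map_mul, map_pow, map_pow]; exact hx
    have h2 : Commute a (a ^ x.1.val * b ^ x.2.val) := Nil.cent_comm K.cent h1 a
    have h3 : Commute b (a ^ x.1.val * b ^ x.2.val) := Nil.cent_comm K.cent h1 b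
    have h4 := ((Commute.refl a).pow_right x.1.val).inv_right.mul_right h2
    have h5 := h3.mul_right ((Commute.refl b).pow_right x.2.val).inv_right
    rw [inv_mul_cancel_left] at h4
    rw [mul_inv_cancel_right] at h5
    exact Prod.ext (eq_zero_of_comm K hab.symm (Ne.symm hne) h5.symm.eq) (eq_zero_of_comm K hab hne h4.symm.eq)
  have mem : ∀ y, y ∈ Q ↔ ∃ x, ee (θ a) (θ b) x = y := fun y => (hQ y).trans
    ⟨fun ⟨i, j, h⟩ => ⟨(i, j), by
      simp only [ee, ZMod.val_natCast]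
      rw [← pow_eq_pow_mod _ a3, ← pow_eq_pow_mod _ b3, h]⟩, fun ⟨x, h⟩ => ⟨_, _, h.symm⟩⟩
  obtain ⟨u, hu, eu⟩ := hb.dt.onto a hab.symm (Ne.symm hne) b (self_mem_SS b)
  obtain ⟨v, hv, ev⟩ := ha.dt.onto b hab hne _ (inv_mem (self_mem_SS a))
  simp only [map_mul, map_inv, mul_inv_eq_iff_eq_mul (b := θ a), mul_inv_eq_iff_eq_mul (b := θ b)] at eu ev
  have cen : ∀ {x : L}, Ds θ x → ∀ s ∈ SC (θ x), s * θ x = θ x * s := fun {x} hx s h => by
    obtain ⟨s, rfl⟩ := hs s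
    rw [← map_mul, SS_comm (hx.sc s h) (self_mem_SS x), map_mul]
  refine ⟨u, hu, v, hv, add, fun x y h => sub_eq_zero.1 (hker _ ?_), mem, ?_, ?_, fun t ht h => ?_, ?_, ?_, ?_, ?_, ?_⟩
  · have h1 := add (x - y) y
    rwa [sub_add_cancel, h, right_eq_mul] at h1
  · rw [e10]
    exact cen ha
  · rw [e10, e01]
    intro s h1 h2
    obtain ⟨s, rfl⟩ := hs s
    obtain ⟨i, hi⟩ := ha.dt.fix b hab hne s (ha.sc s h1) h2
    exact (hQ _).2 ⟨i, 0, by rw [hi, pow_zero, mul_one]⟩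
  · rw [e10] at h
    obtain ⟨⟨j, k⟩, hx⟩ := (mem _).1 ((mem_normalizer_iff.1 ht _).1 ((mem _).2 ⟨(0, 1), rfl⟩))
    refine ⟨j, ?_⟩
    rw [← hx]
    rw [e01] at hx
    obtain ⟨t, rfl⟩ := hs t
    have h1 : θ (t * b * t⁻¹) = θ (a ^ j.val * b ^ k.val) := by
      simp only [map_mul, map_inv, map_pow]
      exact hx.symm
    have hk : θ ⁅b, a⁆ = 1 := comm_ker hab.symm
    have h2 : θ (a⁻¹ * (t * a * t⁻¹)) = 1 := by
      simp only [map_mul, map_inv]
      rw [h, inv_mul_cancel]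
    obtain ⟨z, hz⟩ : ∃ z, z = a⁻¹ * (t * a * t⁻¹) := ⟨_, rfl⟩
    rw [← hz] at h2
    have h3 : t * a * t⁻¹ = a * z := by rw [hz, mul_inv_cancel_left]
    have h4 := conj_eq_of_eq K.cent h1 (t * a * t⁻¹)
    have h5 : t * b * t⁻¹ * (t * a * t⁻¹) * (t * b * t⁻¹)⁻¹ = ⁅b, a⁆ * (a * z) := by
      calc _ = t * ⁅b, a⁆ * a * t⁻¹ := by rw [commutatorElement_def]; group
        _ = _ := by rw [Nil.cent_comm K.cent hk t, ← h3]; group
    have h6 : a ^ j.val * b ^ k.val * (t * a * t⁻¹) * (a ^ j.val * b ^ k.val)⁻¹ = ⁅b, a⁆ ^ k.val * (a * z) := by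
      have h7 : θ (⁅b, a⁆ ^ k.val) = 1 := by rw [map_pow, hk, one_pow]
      calc _ = a ^ j.val * (b ^ k.val * a * (b ^ k.val)⁻¹) * (a ^ j.val)⁻¹ * z := by
            rw [h3, ← mul_assoc, mul_assoc _ z, ← Nil.cent_comm K.cent h2]; group
        _ = _ := by rw [Nil.cent_conj_pow K.cent hab, ← mul_assoc, Nil.cent_comm K.cent h7]; group
    rw [h5, h6, mul_left_inj] at h4
    have h7 : ⁅b, a⁆ ≠ 1 := comm_ne (Ne.symm hne)
    have h8 : ∀ k : ZMod 3, k.val = 0 ∨ k = 1 ∨ k.val = 2 := by decide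
    rcases h8 k with h9 | h9 | h9
    · exact absurd (by rwa [h9, pow_zero] at h4) h7
    · rw [h9]
    · exact absurd (by rwa [h9, pow_two, left_eq_mul] at h4) h7
  · rw [e01]
    exact SC_of_SS K hs hu
  · rw [e10, eu, hab]
    simp [ee, ZMod.val_one]
  · rw [e01, mul_inv_eq_iff_eq_mul]
    exact cen hb _ (SC_of_SS K hs hu)
  · rw [e10]
    exact SC_of_SS K hs hv
  · rw [e01, ev, show ((-1, 1) : V) = (2, 1) from rfl]
    have h : (θ a)⁻¹ = θ a ^ 2 := by rw [inv_eq_iff_mul_eq_one, ← pow_succ', a3]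
    rw [h, ee, ZMod.val_one, pow_one]
    rfl

/-- the transvections are fixed -/
theorem fix_of {σL : MulAut L} {F : MulAut Y} (hF : ∀ x, θ (σL x) = F (θ x)) (h1 : σL a = a) (h2 : σL b = b)
    (ha : Dt θ a) {v : L} (hv : v ∈ SS a) {i : ℕ} (e : θ v * θ b * (θ v)⁻¹ = θ a ^ i * θ b) : F (θ v) = θ v := by
  have h3 : θ (v * b * v⁻¹ * (a ^ i * b)⁻¹) = 1 := by
    simp only [map_mul, map_inv, map_pow]
    rw [e, mul_inv_cancel]
  obtain ⟨n, hn⟩ := K.gen _ _ (comm_ker hab) (comm_ne hne) h3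
  have h4 : σL (v * b * v⁻¹) = v * b * v⁻¹ := by
    rw [mul_inv_eq_iff_eq_mul.1 hn, map_mul, map_mul, map_pow, map_pow, map_commutatorElement, h1, h2]
  rw [map_mul, map_mul, map_inv, h2] at h4
  have h5 := map_mem_SS σL hv
  rw [h1] at h5
  have h7 := ha.fix' K hab hne (mul_mem (inv_mem hv) h5) (by
    calc v⁻¹ * σL v * b = v⁻¹ * (σL v * b * (σL v)⁻¹) * σL v := by group
      _ = _ := by rw [h4]; group)
  rw [map_mul, map_inv, hF, inv_mul_eq_one] at h7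
  exact h7.symm

/-- **the configuration consists of fixed points** -/
theorem exists_cf_fix (hs : Function.Surjective θ) (ha : Ds θ a) (hb : Ds θ b) {Q : Subgroup Y}
    (hQ : ∀ y, y ∈ Q ↔ ∃ i j : ℕ, y = θ a ^ i * θ b ^ j) {σL : MulAut L} {F : MulAut Y}
    (hF : ∀ x, θ (σL x) = F (θ x)) (h1 : σL a = a) (h2 : σL b = b) :
    ∃ e u v, Cf Q e u v ∧ ∀ x ∈ NN Q, F x = x := by
  obtain ⟨u, hu, v, hv, C⟩ := exists_cf K hab hne hs ha hb hQ
  have e10 : ee (θ a) (θ b) (1, 0) = θ a := by simp [ee, ZMod.val_one]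
  have e01 : ee (θ a) (θ b) (0, 1) = θ b := by simp [ee, ZMod.val_one]
  have fu : F (θ u) = θ u := fix_of K hab.symm (Ne.symm hne) hF h2 h1 hb.dt hu (i := 1) (by
    have h := C.ua
    rw [e10] at h
    rw [h, pow_one, hab]
    simp [ee, ZMod.val_one])
  have fv : F (θ v) = θ v := fix_of K hab hne hF h1 h2 ha.dt hv (i := 2) (by
    have h := C.vb
    rw [e01] at h
    rw [h, show ((-1, 1) : V) = (2, 1) from rfl, ee, ZMod.val_one, pow_one]
    rfl)
  have fw : ∀ w, F (ev (θ u) (θ v) w) = ev (θ u) (θ v) w := fun w => by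
    induction w with
    | nil => exact map_one F
    | cons c w ih => cases c <;> simp only [ev, map_mul, fu, fv, ih]
  refine ⟨_, _, _, C, fun x hx => ?_⟩
  obtain ⟨w, hw⟩ := C.NN_le_N0 hx
  obtain ⟨i, j, h⟩ := (hQ _).1 hw
  rw [inv_mul_eq_iff_eq_mul.1 h, map_mul, map_mul, map_pow, map_pow, fw, ← hF, ← hF, h1, h2]

end Cfsg.Agent.TO.E6N
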